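import Groth.Agent.Lib.HomSh.Criterion
import Groth.Agent.Lib.Ref1.Unit
import Groth.Agent.Lib.T1Base26.Ext
import Groth.Agent.Lib.QCoh.StalkPullback
import Groth.Agent.Lib.RefK12.Top
import Groth.Agent.Lib.FittSheaf.Pullback
import Mathlib.RingTheory.Flat.Basic

/-!
# The reflexive hull commutes with flat pull-back
-/

set_option autoImplicit false
set_option linter.all false
set_option backward.isDefEq.respectTransparency false
set_option maxHeartbeats 1000000

universe u

open CategoryTheory CategoryTheory.Limits AlgebraicGeometry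
open scoped TensorProduct
open GrothLib.QCoh (stalkLin)
open GrothLib.T1Base26 (dualMap dualMap_natural bijective_dualMap_free)

noncomputable section

namespace GrothLib.RefBC28

section Algebra

variable {A : Type u} [CommRing A] [IsNoetherianRing A] (B : Type u) [CommRing B] [Algebra A B] [Module.Flat A B]

theorem bijective_dualMap_fp (M : Type u) [AddCommGroup M] [Module A M] [Module.Finite A M] :
    Function.Bijective (dualMap (B := A) B M) := by
  obtain ⟨n, r, hr⟩ := Module.Finite.exists_fin' A M
  obtain ⟨m, s, hs⟩ := Module.Finite.exists_fin' A (LinearMap.ker r)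
  let d : (Fin m → A) →ₗ[A] (Fin n → A) := (LinearMap.ker r).subtype.comp s
  have hn := bijective_dualMap_free (B := A) B (C := Fin n → A)
  have hm := bijective_dualMap_free (B := A) B (C := Fin m → A)
  have hrd : r.comp d = 0 := LinearMap.ext fun v => (s v).2
  have hri : Function.Injective r.dualMap := LinearMap.dualMap_injective_of_surjective hr
  have hex : Function.Exact r.dualMap d.dualMap := by
    intro f
    constructor
    · intro hf
      have hker : LinearMap.ker r ≤ LinearMap.ker f := fun v hv => by
        obtain ⟨w, hw⟩ := hs ⟨v, hv⟩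
        have h1 : f (d w) = 0 := LinearMap.congr_fun hf w
        rwa [show d w = v from congrArg Subtype.val hw] at h1
      refine ⟨((LinearMap.ker r).liftQ f hker).comp (r.quotKerEquivOfSurjective hr).symm.toLinearMap, ?_⟩
      refine LinearMap.ext fun v => ?_
      have e : (r.quotKerEquivOfSurjective hr).symm (r v) = Submodule.Quotient.mk v :=
        (r.quotKerEquivOfSurjective hr).symm_apply_eq.2 rfl
      simp [e]
    · rintro ⟨g, rfl⟩
      rw [← LinearMap.comp_apply, LinearMap.dualMap_comp_dualMap, hrd]
      ext; simp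
  constructor
  · rw [injective_iff_map_eq_zero]
    intro t ht
    have h1 : r.dualMap.baseChange B t = 0 := hn.1 (by rw [dualMap_natural, ht, map_zero, map_zero])
    have hi : Function.Injective (r.dualMap.baseChange B) := Module.Flat.lTensor_preserves_injective_linearMap _ hri
    exact hi (h1.trans (map_zero _).symm)
  · intro φ
    obtain ⟨t, ht⟩ := hn.2 ((r.baseChange B).dualMap φ)
    have h2 : d.dualMap.baseChange B t = 0 := hm.1 (by
      rw [dualMap_natural, ht, ← LinearMap.comp_apply, LinearMap.dualMap_comp_dualMap, ← LinearMap.baseChange_comp,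
        hrd, map_zero]
      ext; simp)
    obtain ⟨u, rfl⟩ := ((Module.Flat.lTensor_exact B hex) t).1 h2
    refine ⟨u, LinearMap.dualMap_injective_of_surjective (f := r.baseChange B)
      (LinearMap.lTensor_surjective B hr) ?_⟩
    rw [← dualMap_natural]
    exact ht

theorem finite_dual (M : Type u) [AddCommGroup M] [Module A M] [Module.Finite A M] :
    Module.Finite A (Module.Dual A M) := inferInstance

theorem bijective_dualMap_baseChange {M N : Type u} [AddCommGroup M] [Module A M] [Module.Finite A M]
    [AddCommGroup N] [Module A N] [Module.Finite A N] (d : M →ₗ[A] N) (hd : Function.Bijective d.dualMap) :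
    Function.Bijective (d.baseChange B).dualMap := by
  have hM := bijective_dualMap_fp (A := A) B M
  have hN := bijective_dualMap_fp (A := A) B N
  have hb : Function.Bijective (d.dualMap.baseChange B) :=
    ((LinearEquiv.ofBijective d.dualMap hd).baseChange A B).bijective
  have h : ⇑(dualMap B M) ∘ ⇑(d.dualMap.baseChange B) = ⇑(d.baseChange B).dualMap ∘ ⇑(dualMap B N) :=
    funext fun t => dualMap_natural B d t
  refine (Function.Bijective.of_comp_iff _ hN).1 ?_
  rw [← h]
  exact hM.comp hb

theorem bijective_eval_dualMap [IsDomain A] (M : Type u) [AddCommGroup M] [Module A M] [Module.Finite A M] :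
    Function.Bijective (Module.Dual.eval A M).dualMap := by
  haveI := HomSh.isReflexive_dual A M
  have h : ⇑(Module.Dual.eval A M).dualMap ∘ ⇑(Module.Dual.eval A (Module.Dual A M)) = id :=
    funext fun f => LinearMap.ext fun v => rfl
  refine (Function.Bijective.of_comp_iff _ (Module.bijective_dual_eval A (Module.Dual A M))).1 ?_
  rw [h]
  exact Function.bijective_id

theorem isReflexive_baseChange (M : Type u) [AddCommGroup M] [Module A M] [Module.Finite A M]
    [Module.IsReflexive A M] : Module.IsReflexive B (B ⊗[A] M) := by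
  have hM := bijective_dualMap_fp (A := A) B M
  have hD := bijective_dualMap_fp (A := A) B (Module.Dual A M)
  have he : Function.Bijective ((Module.Dual.eval A M).baseChange B) :=
    ((Module.evalEquiv A M).baseChange A B).bijective
  have h : ∀ x : B ⊗[A] M, (dualMap B M).dualMap (Module.Dual.eval B (B ⊗[A] M) x) =
      dualMap B (Module.Dual A M) ((Module.Dual.eval A M).baseChange B x) := by
    intro x
    induction x using TensorProduct.induction_on with
    | zero => simp
    | add a b ha hb => simp only [map_add, ha, hb]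
    | tmul a v =>
      refine TensorProduct.AlgebraTensorModule.ext fun b f => ?_
      simp [Algebra.smul_def]
      ring
  have hdm : Function.Bijective (dualMap (B := A) B M).dualMap :=
    (LinearEquiv.ofBijective _ hM).dualMap.bijective
  refine ⟨(hdm.of_comp_iff' _).1 ?_⟩
  rw [show ⇑(dualMap (B := A) B M).dualMap ∘ ⇑(Module.Dual.eval B (B ⊗[A] M)) =
    ⇑(dualMap B (Module.Dual A M)) ∘ ⇑((Module.Dual.eval A M).baseChange B) from funext h]
  exact hD.comp he

end Algebra

section Sheaf

variable {X Y : Scheme.{u}} (f : Y ⟶ X)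

/-- The stalk of a pull-back. -/
theorem exists_stalk_equiv {F G : X.Modules} (k : F ⟶ G) (y : Y) :
    letI := (f.stalkMap y).hom.toAlgebra
    ∃ (eF : ((Scheme.Modules.pullback f).obj F).presheaf.stalk y ≃ₗ[Y.presheaf.stalk y]
          Y.presheaf.stalk y ⊗[X.presheaf.stalk (f y)] F.presheaf.stalk (f y))
      (eG : ((Scheme.Modules.pullback f).obj G).presheaf.stalk y ≃ₗ[Y.presheaf.stalk y]
          Y.presheaf.stalk y ⊗[X.presheaf.stalk (f y)] G.presheaf.stalk (f y)),
      ∀ v, eG (stalkLin ((Scheme.Modules.pullback f).map k) y v) = (stalkLin k (f y)).baseChange _ (eF v) := by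
  letI := (f.stalkMap y).hom.toAlgebra
  refine ⟨((QCoh.stalkPullbackIso f y).app F).toLinearEquiv, ((QCoh.stalkPullbackIso f y).app G).toLinearEquiv,
    fun v => ?_⟩
  exact congrArg (fun φ => (ConcreteCategory.hom φ) v) ((QCoh.stalkPullbackIso f y).hom.naturality k)

variable [IsLocallyNoetherian X] [IsLocallyNoetherian Y] [Flat f]

omit [IsLocallyNoetherian X] [IsLocallyNoetherian Y] in
theorem flat_stalk (y : Y) :
    letI := (f.stalkMap y).hom.toAlgebra
    Module.Flat (X.presheaf.stalk (f y)) (Y.presheaf.stalk y) := by
  letI := (f.stalkMap y).hom.toAlgebra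
  exact Flat.stalkMap f y

omit [Flat f] in
theorem isCoh_pullback {F : X.Modules} (hF : Coh.IsCoh F) : Coh.IsCoh ((Scheme.Modules.pullback f).obj F) :=
  haveI := hF.1
  haveI := FittSheaf.isQuasicoherent_pullback f F
  ⟨inferInstance, (QCoh.isFiniteType_iff_moduleFinite _).2 fun V hV => FittSheaf.moduleFinite_pullback f F hF.2 hV⟩

/-- A flat pull-back of a coherent reflexive module is reflexive. -/
theorem isReflexive_pullback {F : X.Modules} (hF : Coh.IsCoh F) (hr : RefHull.IsReflexive F) :
    RefHull.IsReflexive ((Scheme.Modules.pullback f).obj F) := by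
  have hR := HomSh.hasRel_of_isCoh hF
  refine (HomSh.isReflexive_iff (HomSh.hasRel_of_isCoh (isCoh_pullback f hF))).2 fun y => ?_
  letI := (f.stalkMap y).hom.toAlgebra
  haveI := flat_stalk f y
  haveI := hR.span_stalk (f y)
  haveI : Module.IsReflexive (X.presheaf.stalk (f y)) (F.presheaf.stalk (f y)) :=
    (HomSh.isReflexive_iff hR).1 hr (f y)
  haveI := isReflexive_baseChange (Y.presheaf.stalk y) (A := X.presheaf.stalk (f y)) (F.presheaf.stalk (f y))
  obtain ⟨e, -, -⟩ := exists_stalk_equiv f (𝟙 F) y
  exact Module.equiv e.symm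

theorem isReflexive_structure (Z : Scheme.{u}) [IsLocallyNoetherian Z] :
    RefHull.IsReflexive (Coh.structureModule Z) :=
  (HomSh.isReflexive_iff (HomSh.hasRel_of_isCoh (HomSh.isCoh_structureModule Z))).2 fun x =>
    Ref1.isReflexiveAt_unit x

/-- The biduality map is injective after dualising on the stalks. -/
theorem bijective_dualMap_bidual [IsIntegral X] {F : X.Modules} (hF : Coh.IsCoh F) (x : X) :
    Function.Bijective (stalkLin (RefHull.bidualMap F) x).dualMap := by
  let O := X.presheaf.stalk x
  have hR := HomSh.hasRel_of_isCoh hF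
  haveI := hR.span_stalk x
  let E : (RefHull.dual F).presheaf.stalk x ≃ₗ[O] Module.Dual O (F.presheaf.stalk x) :=
    (LinearEquiv.ofBijective _ (hR.evalStalk_bijective (Coh.structureModule X) x)).trans
      (LinearEquiv.congrRight (HomSh.unitStalk x).symm)
  let Ψ : Module.Dual O (Module.Dual O (F.presheaf.stalk x)) ≃ₗ[O]
      RefHull.StalkHom (RefHull.dual F) (Coh.structureModule X) x :=
    LinearEquiv.arrowCongr E.symm (HomSh.unitStalk x)
  let V : (RefHull.ddual F).presheaf.stalk x ≃ₗ[O] RefHull.StalkHom (RefHull.dual F) (Coh.structureModule X) x :=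
    LinearEquiv.ofBijective _ ((HomSh.hasRel_dual hR).evalStalk_bijective (Coh.structureModule X) x)
  have h : stalkLin (RefHull.bidualMap F) x = (Ψ.trans V.symm).toLinearMap.comp (Module.Dual.eval O (F.presheaf.stalk x)) := by
    refine LinearMap.ext fun v => V.injective ?_
    show RefHull.evalStalk (RefHull.dual F) (Coh.structureModule X) x (stalkLin (RefHull.bidualMap F) x v) =
      V (V.symm (Ψ (Module.Dual.eval O (F.presheaf.stalk x) v)))
    rw [V.apply_symm_apply, HomSh.evalStalk_bidual]
    refine LinearMap.ext fun θ => ?_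
    simp only [Ψ, LinearEquiv.arrowCongr_apply, LinearEquiv.symm_symm, Module.Dual.eval_apply,
      RefHull.bidualAt_apply]
    exact ((HomSh.unitStalk x).apply_symm_apply _).symm
  rw [h, ← LinearMap.dualMap_comp_dualMap]
  exact (bijective_eval_dualMap (F.presheaf.stalk x)).comp (Ψ.trans V.symm).dualMap.bijective

/-- The reflexive hull commutes with flat pull-back. -/
theorem nonempty_ddual_pullback [IsIntegral X] {F : X.Modules} (hF : Coh.IsCoh F) :
    Nonempty (RefHull.ddual ((Scheme.Modules.pullback f).obj F) ≅
      (Scheme.Modules.pullback f).obj (RefHull.ddual F)) := by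
  have hR := HomSh.hasRel_of_isCoh hF
  have hDD : Coh.IsCoh (RefHull.ddual F) := HomSh.isCoh_dual (HomSh.hasRel_dual hR)
  have hDr : RefHull.IsReflexive (RefHull.ddual F) :=
    HomSh.isReflexive_homSh (HomSh.hasRel_dual hR) (HomSh.isCoh_structureModule X) (isReflexive_structure X)
  let φ := (Scheme.Modules.pullback f).map (RefHull.bidualMap F)
  have hP := HomSh.hasRel_of_isCoh (isCoh_pullback f hF)
  have hQ := HomSh.hasRel_of_isCoh (isCoh_pullback f hDD)
  haveI : IsIso (RefFun.dualMap φ) := (OX.isIso_iff _).2 fun y => (ConcreteCategory.isIso_iff_bijective _).2 (by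
    show Function.Bijective (stalkLin (RefFun.dualMap φ) y)
    letI := (f.stalkMap y).hom.toAlgebra
    haveI := flat_stalk f y
    haveI := hR.span_stalk (f y)
    haveI := (HomSh.hasRel_of_isCoh hDD).span_stalk (f y)
    obtain ⟨eF, eG, he⟩ := exists_stalk_equiv f (RefHull.bidualMap F) y
    have hb := bijective_dualMap_baseChange (Y.presheaf.stalk y) _ (bijective_dualMap_bidual hF (f y))
    have h1 : stalkLin φ y = eG.symm.toLinearMap.comp
        (((stalkLin (RefHull.bidualMap F) (f y)).baseChange (Y.presheaf.stalk y)).comp eF.toLinearMap) :=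
      LinearMap.ext fun v => eG.injective ((he v).trans (eG.apply_symm_apply _).symm)
    have h2 : Function.Bijective (stalkLin φ y).dualMap := by
      rw [h1, ← LinearMap.dualMap_comp_dualMap, ← LinearMap.dualMap_comp_dualMap]
      exact (eF.dualMap.bijective.comp hb).comp eG.symm.dualMap.bijective
    let u := HomSh.unitStalk (X := Y) y
    let EP := (LinearEquiv.ofBijective _ (hP.evalStalk_bijective (Coh.structureModule Y) y)).trans
      (LinearEquiv.congrRight u.symm)
    let EQ := (LinearEquiv.ofBijective _ (hQ.evalStalk_bijective (Coh.structureModule Y) y)).trans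
      (LinearEquiv.congrRight u.symm)
    have h3 : ⇑EP ∘ ⇑(stalkLin (RefFun.dualMap φ) y) = ⇑(stalkLin φ y).dualMap ∘ ⇑EQ := by
      refine funext fun θ => LinearMap.ext fun v => ?_
      show u.symm (RefHull.evalStalk _ (Coh.structureModule Y) y (stalkLin (RefFun.dualMap φ) y θ) v) = _
      rw [RefK12.evalStalk_dualMap]
      rfl
    refine (EP.bijective.of_comp_iff' _).1 ?_
    rw [h3]
    exact h2.comp EQ.bijective)
  haveI : IsIso (RefHull.bidualMap ((Scheme.Modules.pullback f).obj (RefHull.ddual F))) :=
    isReflexive_pullback f hDD hDr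
  exact ⟨RefFun.dualIso (asIso (RefFun.dualMap φ)).symm ≪≫
    (asIso (RefHull.bidualMap ((Scheme.Modules.pullback f).obj (RefHull.ddual F)))).symm⟩

end Sheaf

end GrothLib.RefBC28

end
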